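import Groth.Agent.SplitRibLib.Scheme
import Groth.Agent.RibbonLib.ClosedImm

/-!
# A square-zero thickening with a retraction is the trivial extension
-/

set_option autoImplicit false
set_option linter.style.haveILetI false
set_option linter.unusedVariables false
set_option backward.isDefEq.respectTransparency false
set_option maxHeartbeats 1000000

universe u

open CategoryTheory CategoryTheory.Limits AlgebraicGeometry TopologicalSpace Opposite TrivSqZeroExt
open Groth.Agent.PullbackMod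

noncomputable section

namespace Groth.Agent.SplitRibUniqLib

theorem ker_mul_ker {D C : Scheme.{u}} (i : D ⟶ C) [QuasiCompact i] (h : i.ker ^ 2 = ⊥) {W : C.Opens}
    (hW : IsAffineOpen W) {x y : Γ(C, W)} (hx : i.app W x = 0) (hy : i.app W y = 0) : x * y = 0 := by
  have h1 : (i.ker ^ 2).ideal ⟨W, hW⟩ = ⊥ := by rw [h, Scheme.IdealSheafData.ideal_bot]; rfl
  rw [Scheme.IdealSheafData.ideal_pow, Pi.pow_apply, sq, Scheme.Hom.ker_apply] at h1
  exact (Submodule.mem_bot _).1 (h1 ▸ Ideal.mul_mem_mul (RingHom.mem_ker.2 hx) (RingHom.mem_ker.2 hy))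

/-- A section with reduced source of a retraction of a square-zero thickening. -/
theorem section_eq {D C : Scheme.{u}} [IsReduced D] {i : D ⟶ C} [IsClosedImmersion i] (h : i.ker ^ 2 = ⊥)
    {q : C ⟶ D} (hiq : i ≫ q = 𝟙 D) (s : D ⟶ C) [QuasiCompact s] (hs : s ≫ q = 𝟙 D) : s = i := by
  have hle : i.ker ≤ s.ker := by
    intro W x hx
    rw [Scheme.Hom.ker_apply, RingHom.mem_ker] at hx ⊢
    refine eq_zero_of_pow_eq_zero (n := 2) ?_
    rw [sq, ← map_mul, ker_mul_ker i h W.2 hx hx, map_zero]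
  have h1 := IsClosedImmersion.lift_fac i s hle
  have h2 : IsClosedImmersion.lift i s hle = 𝟙 D := by
    have := congrArg (fun t => t ≫ q) h1
    simp only [Category.assoc, hiq, Category.comp_id, hs] at this
    exact this
  rw [← h1, h2, Category.id_comp]

section

variable {D C : Scheme.{u}} (i : D ⟶ C) [IsClosedImmersion i] (h : i.ker ^ 2 = ⊥) (q : C ⟶ D) (hiq : i ≫ q = 𝟙 D)
  (L : D.Modules) [Coh.IsQCoh L] (θ : L ≅ (Scheme.Modules.pullback i).obj (ClSub.idealMod i.ker))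

include hiq in
theorem preimage_eq (U : D.Opens) : i ⁻¹ᵁ (q ⁻¹ᵁ U) = U := by
  rw [← Scheme.Hom.comp_preimage, hiq]; rfl

include hiq in
theorem appLE_app (U : D.Opens) (a : Γ(D, U)) :
    i.appLE (q ⁻¹ᵁ U) U (preimage_eq i q hiq U).ge (q.app U a) = a := by
  rw [← ConcreteCategory.comp_apply, Scheme.Hom.app_eq_appLE, Scheme.Hom.appLE_comp_appLE]
  have key : ∀ (φ : D ⟶ D) (_ : φ = 𝟙 D) (e : U ≤ φ ⁻¹ᵁ U), φ.appLE U U e a = a := by
    rintro _ rfl e
    rw [Scheme.Hom.appLE]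
    simp
    exact ConcreteCategory.congr_hom (D.presheaf.map_id _) a
  exact key _ hiq _

include h hiq in
theorem isAffineHom : IsAffineHom q :=
  ⟨fun U hU => DefGlueLib.isAffineOpen_of_preimage i (RibbonLib.surjective_of_ker_sq i h).1
    (by rw [preimage_eq i q hiq U]; exact hU)⟩

include h hiq in
theorem isAffine_pre {U : D.Opens} (hU : IsAffineOpen U) : IsAffineOpen (q ⁻¹ᵁ U) :=
  haveI := isAffineHom i h q hiq
  hU.preimage q

/-- Ideal sections to conormal sections. -/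
def kap (U : D.Opens) : Γ(ClSub.idealMod i.ker, q ⁻¹ᵁ U) →+ Γ((Scheme.Modules.pullback i).obj (ClSub.idealMod i.ker), U) :=
  pullMap i _ (preimage_eq i q hiq U).ge

include h in
theorem kap_bijective {U : D.Opens} (hU : IsAffineOpen U) : Function.Bijective (kap i q hiq U) := by
  have hW := isAffine_pre i h q hiq hU
  obtain ⟨hpre, hs⟩ := ConormalLib.chart_of_le i hW (fun x _ => (coborder_eq_univ_iff.mpr i.isClosedEmbedding.isClosed_range).ge (Set.mem_univ x))
  have key : ∀ (W' : D.Opens) (e : W' ≤ i ⁻¹ᵁ (q ⁻¹ᵁ U)), W' = i ⁻¹ᵁ (q ⁻¹ᵁ U) →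
      Function.Surjective (pullMap i (ClSub.idealMod i.ker) e) ∧
      ∀ z, pullMap i (ClSub.idealMod i.ker) e z = 0 ↔
        OmegaSh.idealSect i.ker _ z ∈ RingHom.ker (i.app (q ⁻¹ᵁ U)).hom * RingHom.ker (i.app (q ⁻¹ᵁ U)).hom := by
    rintro _ e rfl
    exact ConormalLib.cls_surjective_and_eq_zero_iff i hW hpre hs
  obtain ⟨hsurj, hzero⟩ := key U (preimage_eq i q hiq U).ge (preimage_eq i q hiq U).symm
  refine ⟨(injective_iff_map_eq_zero _).2 fun z hz => OmegaAffLib.idealSect_injective _ _ ?_, hsurj⟩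
  rw [map_zero]
  exact (Submodule.mem_bot Γ(C, q ⁻¹ᵁ U)).1 ((Ideal.mul_le.2 fun a ha b hb => (Submodule.mem_bot _).2
    (ker_mul_ker i h hW (RingHom.mem_ker.1 ha) (RingHom.mem_ker.1 hb))) ((hzero z).1 hz))

include h in
theorem exists_J {U : D.Opens} (hU : IsAffineOpen U) (m : Γ(L, U)) :
    ∃ z, kap i q hiq U z = θ.hom.app U m :=
  (kap_bijective i h q hiq hU).2 _

/-- A section of `L` as a function on the thickening. -/
def J {U : D.Opens} (hU : IsAffineOpen U) (m : Γ(L, U)) : Γ(C, q ⁻¹ᵁ U) :=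
  OmegaSh.idealSect i.ker _ (exists_J i h q hiq L θ hU m).choose

theorem J_eq {U : D.Opens} (hU : IsAffineOpen U) (m : Γ(L, U)) (z : Γ(ClSub.idealMod i.ker, q ⁻¹ᵁ U))
    (hz : kap i q hiq U z = θ.hom.app U m) : J i h q hiq L θ hU m = OmegaSh.idealSect i.ker _ z := by
  unfold J
  rw [(kap_bijective i h q hiq hU).1 ((exists_J i h q hiq L θ hU m).choose_spec.trans hz.symm)]

theorem app_J {U : D.Opens} (hU : IsAffineOpen U) (m : Γ(L, U)) : i.app (q ⁻¹ᵁ U) (J i h q hiq L θ hU m) = 0 :=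
  ConormalLib.app_idealSect i _ _

theorem J_zero {U : D.Opens} (hU : IsAffineOpen U) : J i h q hiq L θ hU 0 = 0 := by
  rw [J_eq i h q hiq L θ hU 0 0 (by rw [map_zero, map_zero]), map_zero]

theorem J_add {U : D.Opens} (hU : IsAffineOpen U) (a b : Γ(L, U)) :
    J i h q hiq L θ hU (a + b) = J i h q hiq L θ hU a + J i h q hiq L θ hU b := by
  obtain ⟨za, hza⟩ := exists_J i h q hiq L θ hU a
  obtain ⟨zb, hzb⟩ := exists_J i h q hiq L θ hU b
  rw [J_eq i h q hiq L θ hU a za hza, J_eq i h q hiq L θ hU b zb hzb,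
    J_eq i h q hiq L θ hU (a + b) (za + zb) (by rw [map_add, map_add, hza, hzb]), map_add]

theorem J_smul {U : D.Opens} (hU : IsAffineOpen U) (r : Γ(D, U)) (m : Γ(L, U)) :
    J i h q hiq L θ hU (r • m) = q.app U r * J i h q hiq L θ hU m := by
  obtain ⟨z, hz⟩ := exists_J i h q hiq L θ hU m
  rw [J_eq i h q hiq L θ hU m z hz, J_eq i h q hiq L θ hU (r • m) (q.app U r • z) (by
    show pullMap i _ _ (q.app U r • z) = _
    rw [pullMap_smul, appLE_app i q hiq U r, Scheme.Modules.Hom.app_smul]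
    exact congrArg (r • ·) hz), OmegaAffLib.idealSect_smul]

theorem J_res {U V : D.Opens} (hU : IsAffineOpen U) (hV : IsAffineOpen V) (hle : V ≤ U) (m : Γ(L, U)) :
    J i h q hiq L θ hV (L.presheaf.map (homOfLE hle).op m) =
      C.presheaf.map (homOfLE (q.preimage_mono hle)).op (J i h q hiq L θ hU m) := by
  obtain ⟨z, hz⟩ := exists_J i h q hiq L θ hU m
  rw [J_eq i h q hiq L θ hU m z hz, ← ConormalLib.idealSect_res]
  refine J_eq i h q hiq L θ hV _ _ ?_
  rw [OmegaUnivLib.hom_natural θ.hom (homOfLE hle) m, ← hz]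
  exact (pullMap_res i _ _ (q.preimage_mono hle) hle (preimage_eq i q hiq V).ge z).symm

/-- The functions on the thickening over an affine open, from those of the trivial extension. -/
def g {U : D.Opens} (hU : IsAffineOpen U) : SplitRibLib.Ext0 L U →+* Γ(C, q ⁻¹ᵁ U) where
  toFun x := q.app U x.fst + J i h q hiq L θ hU x.snd
  map_zero' := by rw [fst_zero, snd_zero, map_zero, J_zero, add_zero]
  map_one' := by rw [fst_one, snd_one, map_one, J_zero, add_zero]
  map_add' x y := by rw [fst_add, snd_add, map_add, J_add]; ring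
  map_mul' x y := by
    have h0 := ker_mul_ker i h (isAffine_pre i h q hiq hU) (app_J i h q hiq L θ hU x.snd) (app_J i h q hiq L θ hU y.snd)
    rw [fst_mul, snd_mul, op_smul_eq_smul, map_mul, J_add, J_smul, J_smul]
    linear_combination -h0

theorem g_inl {U : D.Opens} (hU : IsAffineOpen U) (a : Γ(D, U)) : g i h q hiq L θ hU (inl a) = q.app U a := by
  show q.app U (inl a).fst + J i h q hiq L θ hU (inl a).snd = _
  rw [fst_inl, snd_inl, J_zero, add_zero]

theorem g_res {U V : D.Opens} (hU : IsAffineOpen U) (hV : IsAffineOpen V) (hle : V ≤ U) (x : SplitRibLib.Ext0 L U) :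
    g i h q hiq L θ hV (SplitRibLib.res L hle x) =
      C.presheaf.map (homOfLE (q.preimage_mono hle)).op (g i h q hiq L θ hU x) := by
  show q.app V (SplitRibLib.res L hle x).fst + J i h q hiq L θ hV (SplitRibLib.res L hle x).snd = _
  rw [SplitRibLib.fst_res, show (SplitRibLib.res L hle x).snd = L.presheaf.map (homOfLE hle).op x.snd by
    simp [SplitRibLib.res], J_res i h q hiq L θ hU hV hle]
  show _ = C.presheaf.map _ (q.app U x.fst + J i h q hiq L θ hU x.snd)
  rw [map_add]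
  congr 1
  exact ConcreteCategory.congr_hom (q.naturality (homOfLE hle).op) x.fst

include h in
theorem g_bijective {U : D.Opens} (hU : IsAffineOpen U) : Function.Bijective (g i h q hiq L θ hU) := by
  have hi0 : ∀ z : Γ(ClSub.idealMod i.ker, q ⁻¹ᵁ U), i.appLE (q ⁻¹ᵁ U) U (preimage_eq i q hiq U).ge
      (OmegaSh.idealSect i.ker _ z) = 0 := fun z => by
    rw [Scheme.Hom.appLE, CommRingCat.comp_apply, ConormalLib.app_idealSect, map_zero]
  constructor
  · refine (injective_iff_map_eq_zero _).2 fun x hx => ?_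
    have hx' : q.app U x.fst + J i h q hiq L θ hU x.snd = 0 := hx
    have hfst : x.fst = 0 := by
      have h1 := congrArg (fun t => i.appLE (q ⁻¹ᵁ U) U (preimage_eq i q hiq U).ge t) hx'
      simp only [map_add, map_zero] at h1
      rw [appLE_app i q hiq U, J, hi0, add_zero] at h1
      exact h1
    obtain ⟨z, hz⟩ := exists_J i h q hiq L θ hU x.snd
    rw [hfst, map_zero, zero_add, J_eq i h q hiq L θ hU _ z hz] at hx'
    have hz0 : z = 0 := OmegaAffLib.idealSect_injective _ _ (hx'.trans (map_zero _).symm)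
    refine TrivSqZeroExt.ext hfst ?_
    rw [hz0, map_zero] at hz
    haveI : IsIso θ.hom := inferInstance
    have : x.snd = θ.inv.app U (θ.hom.app U x.snd) := by
      rw [← ConcreteCategory.comp_apply]
      erw [← Scheme.Modules.Hom.comp_app, θ.hom_inv_id]
      rfl
    rw [this, ← hz, map_zero, snd_zero]
  · intro y
    let a := i.appLE (q ⁻¹ᵁ U) U (preimage_eq i q hiq U).ge y
    have hy : i.app (q ⁻¹ᵁ U) (y - q.app U a) = 0 := by
      have key : ∀ (U' : D.Opens) (e : U' ≤ i ⁻¹ᵁ (q ⁻¹ᵁ U)), i ⁻¹ᵁ (q ⁻¹ᵁ U) = U' → ∀ t,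
          i.appLE (q ⁻¹ᵁ U) U' e t = 0 → i.app (q ⁻¹ᵁ U) t = 0 := by
        rintro _ e rfl t ht
        rwa [Scheme.Hom.app_eq_appLE]
      refine key U (preimage_eq i q hiq U).ge (preimage_eq i q hiq U) _ ?_
      rw [map_sub, appLE_app i q hiq U a, sub_eq_zero]
    obtain ⟨z, hz⟩ := ConormalLib.exists_idealSect_eq i _ _ hy
    refine ⟨inl a + inr (θ.inv.app U (kap i q hiq U z)), ?_⟩
    show q.app U _ + J i h q hiq L θ hU _ = y
    rw [fst_add, fst_inl, fst_inr, add_zero, snd_add, snd_inl, snd_inr, zero_add,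
      J_eq i h q hiq L θ hU _ z ?_, hz, add_sub_cancel]
    rw [← ConcreteCategory.comp_apply]
    erw [← Scheme.Modules.Hom.comp_app, θ.inv_hom_id]
    rfl

/-- The chart-wise inverse. -/
def f (U : D.AffineZariskiSite) : Γ(C, q ⁻¹ᵁ U.1) ⟶ CommRingCat.of (SplitRibLib.Ext0 L U.1) :=
  CommRingCat.ofHom (RingEquiv.ofBijective _ (g_bijective i h q hiq L θ U.2)).symm.toRingHom

theorem f_g (U : D.AffineZariskiSite) (x : SplitRibLib.Ext0 L U.1) :
    f i h q hiq L θ U (g i h q hiq L θ U.2 x) = x :=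
  (RingEquiv.ofBijective _ (g_bijective i h q hiq L θ U.2)).symm_apply_apply x

theorem g_f (U : D.AffineZariskiSite) (y : Γ(C, q ⁻¹ᵁ U.1)) :
    g i h q hiq L θ U.2 (f i h q hiq L θ U y) = y :=
  (RingEquiv.ofBijective _ (g_bijective i h q hiq L θ U.2)).apply_symm_apply y

instance (U : D.AffineZariskiSite) : IsIso (f i h q hiq L θ U) :=
  (RingEquiv.ofBijective _ (g_bijective i h q hiq L θ U.2)).symm.toCommRingCatIso.isIso_hom

theorem app_f (U : D.AffineZariskiSite) :
    q.app U.1 ≫ f i h q hiq L θ U = CommRingCat.ofHom (inlHom Γ(D, U.1) Γ(L, U.1)) := by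
  ext1
  ext1 a
  show f i h q hiq L θ U (q.app U.1 a) = inl a
  rw [← g_inl i h q hiq L θ U.2 a, f_g]

theorem res_f {U V : D.AffineZariskiSite} (hle : V.1 ≤ U.1) :
    C.presheaf.map (homOfLE (q.preimage_mono hle)).op ≫ f i h q hiq L θ V =
      f i h q hiq L θ U ≫ CommRingCat.ofHom (SplitRibLib.res L hle) := by
  ext1
  ext1 y
  show f i h q hiq L θ V (C.presheaf.map _ y) = SplitRibLib.res L hle (f i h q hiq L θ U y)
  conv_lhs => rw [← g_f i h q hiq L θ U y, ← g_res i h q hiq L θ U.2 V.2 hle, f_g]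

/-- A chart of the comparison. -/
def chart (U : D.AffineZariskiSite) : Spec (CommRingCat.of (SplitRibLib.Ext0 L U.1)) ⟶ C :=
  Spec.map (f i h q hiq L θ U) ≫ (isAffine_pre i h q hiq U.2).fromSpec

theorem chart_q (U : D.AffineZariskiSite) :
    chart i h q hiq L θ U ≫ q =
      Spec.map (CommRingCat.ofHom (inlHom Γ(D, U.1) Γ(L, U.1))) ≫ U.2.fromSpec := by
  rw [chart, Category.assoc, ← IsAffineOpen.SpecMap_appLE_fromSpec q U.2 (isAffine_pre i h q hiq U.2) le_rfl,
    ← Scheme.Hom.app_eq_appLE, ← Spec.map_comp_assoc, app_f]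

theorem chart_res {U V : D.AffineZariskiSite} (hle : V.1 ≤ U.1) :
    Spec.map (CommRingCat.ofHom (SplitRibLib.res L hle)) ≫ chart i h q hiq L θ U = chart i h q hiq L θ V := by
  rw [chart, chart, ← Spec.map_comp_assoc, ← res_f i h q hiq L θ hle, Spec.map_comp_assoc,
    IsAffineOpen.map_fromSpec _ _ (homOfLE (q.preimage_mono hle)).op]

instance isOpenImmersion_chart (U : D.AffineZariskiSite) : IsOpenImmersion (chart i h q hiq L θ U) :=
  show IsOpenImmersion (Spec.map (f i h q hiq L θ U) ≫ (isAffine_pre i h q hiq U.2).fromSpec) from inferInstance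

theorem range_chart (U : D.AffineZariskiSite) :
    (chart i h q hiq L θ U).opensRange = q ⁻¹ᵁ U.1 := by
  show (Spec.map (f i h q hiq L θ U) ≫ (isAffine_pre i h q hiq U.2).fromSpec).opensRange = q ⁻¹ᵁ U.1
  rw [Scheme.Hom.opensRange_comp_of_isIso, IsAffineOpen.opensRange_fromSpec]

/-- The comparison map. -/
def toC : SplitRibLib.ext L ⟶ C :=
  colimit.desc (SplitRibLib.extData L).glueData.functor
    { pt := C
      ι := { app := fun U => chart i h q hiq L θ U
             naturality := fun U V k =>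
              (chart_res i h q hiq L θ (Scheme.AffineZariskiSite.toOpens_mono k.le)).trans (Category.comp_id _).symm } }

theorem ι_toC (U : D.AffineZariskiSite) :
    (SplitRibLib.extData L).ι U ≫ toC i h q hiq L θ = chart i h q hiq L θ U :=
  colimit.ι_desc _ _

theorem toC_q : toC i h q hiq L θ ≫ q = SplitRibLib.proj L := by
  refine colimit.hom_ext fun U => ?_
  show (SplitRibLib.extData L).ι U ≫ _ = (SplitRibLib.extData L).ι U ≫ (SplitRibLib.extData L).π
  rw [reassoc_of% (ι_toC i h q hiq L θ U), RelSpecLib.AffData.ι_π, chart_q]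
  rfl

instance isIso_toC : IsIso (toC i h q hiq L θ) := by
  refine DefGlueLib.isIso_of_affine _ fun z => ?_
  obtain ⟨_, ⟨U, hU, rfl⟩, hz, -⟩ := D.isBasis_affineOpens.exists_subset_of_mem_open (Set.mem_univ (q z)) isOpen_univ
  have hpre : toC i h q hiq L θ ⁻¹ᵁ (q ⁻¹ᵁ U) = SplitRibLib.proj L ⁻¹ᵁ U := by
    rw [← Scheme.Hom.comp_preimage, toC_q]
  refine ⟨q ⁻¹ᵁ U, hz, isAffine_pre i h q hiq hU, by rw [hpre]; exact hU.preimage _, ?_⟩
  let V : D.AffineZariskiSite := ⟨U, hU⟩
  haveI : IsOpenImmersion ((SplitRibLib.extData L).ι V ≫ toC i h q hiq L θ) := by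
    rw [ι_toC]; infer_instance
  haveI h1 : IsIso (((SplitRibLib.extData L).ι V ≫ toC i h q hiq L θ).app (q ⁻¹ᵁ U)) :=
    Scheme.Hom.isIso_app _ _ (by
      have : ∀ (φ : Spec (CommRingCat.of (SplitRibLib.Ext0 L U)) ⟶ C) [IsOpenImmersion φ],
          φ = chart i h q hiq L θ V → q ⁻¹ᵁ U ≤ φ.opensRange := by
        rintro _ _ rfl
        exact (range_chart i h q hiq L θ V).ge
      exact this _ (ι_toC i h q hiq L θ V))
  haveI h2 : IsIso (((SplitRibLib.extData L).ι V).app (toC i h q hiq L θ ⁻¹ᵁ (q ⁻¹ᵁ U))) :=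
    Scheme.Hom.isIso_app _ _ (by
      rw [hpre]
      exact ((SplitRibLib.extData L).π_preimage V).le)
  rw [Scheme.Hom.comp_app] at h1
  exact IsIso.of_isIso_comp_right _ (((SplitRibLib.extData L).ι V).app (toC i h q hiq L θ ⁻¹ᵁ (q ⁻¹ᵁ U)))

include h hiq θ in
theorem exists_iso_ext : ∃ e : SplitRibLib.ext L ≅ C, e.hom ≫ q = SplitRibLib.proj L :=
  ⟨asIso (toC i h q hiq L θ), toC_q i h q hiq L θ⟩

end

/-- Split thickenings with isomorphic conormal sheaves are isomorphic. -/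
theorem exists_iso {D C C' : Scheme.{u}} [IsReduced D]
    (i : D ⟶ C) [IsClosedImmersion i] (h : i.ker ^ 2 = ⊥) (q : C ⟶ D) (hiq : i ≫ q = 𝟙 D)
    (i' : D ⟶ C') [IsClosedImmersion i'] (h' : i'.ker ^ 2 = ⊥) (q' : C' ⟶ D) (hiq' : i' ≫ q' = 𝟙 D)
    (L : D.Modules) [Coh.IsQCoh L] (θ : L ≅ (Scheme.Modules.pullback i).obj (ClSub.idealMod i.ker))
    (θ' : L ≅ (Scheme.Modules.pullback i').obj (ClSub.idealMod i'.ker)) :
    ∃ ψ : C ≅ C', i ≫ ψ.hom = i' ∧ ψ.hom ≫ q' = q := by
  obtain ⟨e, he⟩ := exists_iso_ext i h q hiq L θ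
  obtain ⟨e', he'⟩ := exists_iso_ext i' h' q' hiq' L θ'
  have hq : (e.symm ≪≫ e').hom ≫ q' = q := by
    rw [Iso.trans_hom, Iso.symm_hom, Category.assoc, he', Iso.inv_comp_eq, he]
  refine ⟨e.symm ≪≫ e', ?_, hq⟩
  exact section_eq h' hiq' _ (by rw [Category.assoc, hq, hiq])

end Groth.Agent.SplitRibUniqLib
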